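import Groth.Agent.TopPullModel.LocalHomeo
import Groth.Agent.HDU.Basic
import Groth.Agent.HDU.Top
import Groth.Agent.DerPlus.Acyclic
import Mathlib.Algebra.Homology.ShortComplex.Ab
import Mathlib.Algebra.Homology.DerivedCategory.ShortExact
import Mathlib.CategoryTheory.Triangulated.Yoneda

/-!
Hypercohomology on spaces as maps in the derived category.
-/

set_option autoImplicit false
set_option linter.style.haveILetI false
set_option linter.unusedSectionVars false
set_option backward.isDefEq.respectTransparency false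
set_option backward.isDefEq.respectTransparency.types false

universe w v u u'

open CategoryTheory Category Limits Opposite TopologicalSpace DerivedCategory
open Groth.Agent.TopPullModel

namespace Groth.Agent.DescAdams

section Abelian

variable {A : Type u'} [Category.{v} A] [Abelian A] [HasDerivedCategory.{w} A]

/-- Maps from an object to a complex in the derived category. -/
abbrev HHof (P : A) (C : CochainComplex A ℤ) (q : ℤ) : Type w :=
  (Q : _ ⥤ DerivedCategory A).obj ((CochainComplex.singleFunctor A 0).obj P) ⟶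
    (shiftFunctor (DerivedCategory A) q).obj ((Q : _ ⥤ DerivedCategory A).obj C)

/-- Isomorphic objects of the derived category have the same groups. -/
noncomputable def HHofCongr (P : A) {C C' : CochainComplex A ℤ}
    (e : (Q : _ ⥤ DerivedCategory A).obj C ≅ (Q : _ ⥤ DerivedCategory A).obj C') (q : ℤ) :
    HHof P C q ≃+ HHof P C' q :=
  (((preadditiveCoyoneda.obj (op _)).mapIso ((shiftFunctor (DerivedCategory A) q).mapIso e))).addCommGroupIsoToAddEquiv

/-- The groups of a K-injective complex are homology groups of the complex of maps. -/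
theorem nonempty_HHof_kInjective (P : A) (I : CochainComplex A ℤ) [I.IsKInjective] (q : ℤ) :
    Nonempty (HHof P I q ≃+
      ((((preadditiveCoyoneda.obj (op P)).mapHomologicalComplex (ComplexShape.up ℤ)).obj I).homology q :
        AddCommGrpCat.{v})) := by
  let M := ((preadditiveCoyoneda.obj (op P)).mapHomologicalComplex (ComplexShape.up ℤ)).obj I
  let S := M.sc' (q - 1) q (q + 1)
  let φ : AddMonoidHom.ker S.g.hom →+ HHof P I q :=
    AddMonoidHom.mk' (fun f => HDU.cl q (f.1 : P ⟶ I.X q) f.2) fun f g => HDU.cl_add q _ _ f.2 g.2 _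
  have hs : Function.Surjective φ := fun x => by
    obtain ⟨f, hf, rfl⟩ := HDU.cl_surjective q x
    exact ⟨⟨f, hf⟩, rfl⟩
  have hk : φ.ker = (S.abToCycles).range := by
    ext ⟨f, hf⟩
    refine (HDU.cl_eq_zero_iff q (f : P ⟶ I.X q) hf).trans ⟨?_, ?_⟩
    · rintro ⟨g, hg⟩
      exact ⟨g, Subtype.ext hg⟩
    · rintro ⟨g, hg⟩
      exact ⟨g, congrArg Subtype.val hg⟩
  let e : M.homology q ≅ AddCommGrpCat.of (AddMonoidHom.ker S.g.hom ⧸ (S.abToCycles).range) :=
    ShortComplex.homologyMapIso (M.isoSc' (q - 1) q (q + 1) (by simp) (by simp)) ≪≫ S.abHomologyIso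
  exact ⟨(QuotientAddGroup.quotientKerEquivOfSurjective φ hs).symm.trans
    ((QuotientAddGroup.quotientAddEquivOfEq hk).trans e.symm.addCommGroupIsoToAddEquiv)⟩

/-- A short exact sequence whose first map has a retraction in the derived category splits. -/
theorem nonempty_HHof_split (P : A) {S : ShortComplex (CochainComplex A ℤ)} (hS : S.ShortExact)
    (r : (Q : _ ⥤ DerivedCategory A).obj S.X₂ ⟶ Q.obj S.X₁) (hr : Q.map S.f ≫ r = 𝟙 _) (q : ℤ) :
    Nonempty (HHof P S.X₂ q ≃+ HHof P S.X₁ q × HHof P S.X₃ q) := by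
  have hT := triangleOfSES_distinguished hS
  have hz : (triangleOfSES hS).mor₃ = 0 := by
    have h1 : (triangleOfSES hS).mor₃ ≫ (shiftFunctor (DerivedCategory A) (1 : ℤ)).map (Q.map S.f) = 0 :=
      Pretriangulated.comp_distTriang_mor_zero₃₁ _ hT
    have h2 := congrArg (fun k => k ≫ (shiftFunctor (DerivedCategory A) (1 : ℤ)).map r) h1
    simp only [assoc, ← Functor.map_comp, hr, zero_comp] at h2
    exact (comp_id _).symm.trans ((congrArg ((triangleOfSES hS).mor₃ ≫ ·)
      ((shiftFunctor (DerivedCategory A) (1 : ℤ)).map_id (Q.obj S.X₁)).symm).trans h2)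
  obtain ⟨e, -, -⟩ := Pretriangulated.exists_iso_binaryBiproduct_of_distTriang _ hT hz
  let G := shiftFunctor (DerivedCategory A) q ⋙
    preadditiveCoyoneda.obj (op ((Q : _ ⥤ DerivedCategory A).obj ((CochainComplex.singleFunctor A 0).obj P)))
  haveI : G.Additive := inferInstance
  haveI : PreservesBinaryBiproducts G := preservesBinaryBiproducts_of_preservesBiproducts G
  exact ⟨(G.mapIso e ≪≫ G.mapBiprod _ _ ≪≫ AddCommGrpCat.biprodIsoProd _ _).addCommGroupIsoToAddEquiv⟩

end Abelian

attribute [local instance] HasDerivedCategory.standard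

/-- Hypercohomology of a complex of sheaves on a space. -/
abbrev HH {X : TopCat.{u}} (C : CochainComplex (CohTop.Ab X) ℤ) (q : ℤ) : Type (u + 1) :=
  HHof ((constantSheaf (Opens.grothendieckTopology X) AddCommGrpCat.{u}).obj (AddCommGrpCat.of (ULift.{u} ℤ))) C q

/-- The complex of global sections. -/
noncomputable abbrev gamC {X : TopCat.{u}} (C : CochainComplex (CohTop.Ab X) ℤ) : CochainComplex AddCommGrpCat.{u} ℤ :=
  ((gam X).mapHomologicalComplex (ComplexShape.up ℤ)).obj C

variable {X Y : TopCat.{u}}

/-- Invariance under quasi-isomorphisms. -/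
noncomputable def HH_quasiIso {C C' : CochainComplex (CohTop.Ab X) ℤ} (φ : C ⟶ C') [QuasiIso φ] (q : ℤ) :
    HH C q ≃+ HH C' q :=
  HHofCongr _ (asIso (DerivedCategory.Q.map φ)) q

/-- Invariance under isomorphisms. -/
noncomputable def HH_iso {C C' : CochainComplex (CohTop.Ab X) ℤ} (e : C ≅ C') (q : ℤ) : HH C q ≃+ HH C' q :=
  HHofCongr _ (DerivedCategory.Q.mapIso e) q

/-- Hypercohomology of a complex of injectives. -/
theorem nonempty_HH_injective (I : CochainComplex (CohTop.Ab X) ℤ) [I.IsStrictlyGE 0]
    [∀ n, Injective (I.X n)] (q : ℤ) : Nonempty (HH I q ≃+ ((gamC I).homology q : AddCommGrpCat.{u})) := by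
  haveI := CochainComplex.isKInjective_of_injective I 0
  exact nonempty_HHof_kInjective _ I q

/-- Hypercohomology of a sheaf is cohomology. -/
theorem nonempty_HH_single (G : CohTop.Ab X) (q : ℕ) :
    Nonempty (HH ((CochainComplex.singleFunctor (CohTop.Ab X) 0).obj G) q ≃+ CohTop.H G q) := by
  let R := injectiveResolution G
  haveI : ∀ n, Injective (R.cochainComplex.X n) := fun n => inferInstance
  obtain ⟨a⟩ := nonempty_HH_injective R.cochainComplex (q : ℤ)
  obtain ⟨b⟩ := GrothSS.nonempty_homology_map_resolution (gam X) R q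
  exact ⟨(HH_quasiIso R.ι' _).trans (a.trans ((b ≪≫ gamDerived q G).addCommGroupIsoToAddEquiv))⟩

/-- Global sections of a direct image of a complex. -/
noncomputable def gamCPush (t : Y ⟶ X) (C : CochainComplex (CohTop.Ab Y) ℤ) :
    gamC (((CohTop.push t).mapHomologicalComplex (ComplexShape.up ℤ)).obj C) ≅ gamC C :=
  HomologicalComplex.Hom.isoOfComponents (fun n => (pushGamIso t).app (C.X n))
    fun i j _ => ((pushGamIso t).hom.naturality (C.d i j)).symm

/-- Hypercohomology of a direct image of acyclic objects. -/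
theorem nonempty_HH_push (t : Y ⟶ X) (C : CochainComplex (CohTop.Ab Y) ℤ) [C.IsStrictlyGE 0]
    (hC : ∀ (n : ℤ) (r : ℕ), IsZero ((CohTop.Rpush t (r + 1)).obj (C.X n))) (q : ℤ) :
    Nonempty (HH (((CohTop.push t).mapHomologicalComplex (ComplexShape.up ℤ)).obj C) q ≃+ HH C q) := by
  haveI : PreservesFiniteLimits (CohTop.push t) := by
    haveI := (TopCat.Sheaf.pullbackPushforwardAdjunction AddCommGrpCat.{u} t).rightAdjoint_preservesLimits
    infer_instance
  obtain ⟨L, u, hu, hL, hLge⟩ := CochainComplex.Plus.modelCategoryQuillen.exists_quasiIso_injective C 0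
  haveI := CochainComplex.isStrictlyGE_mappingCone u 0 0 (-1)
  haveI : (CohTop.push t).PreservesInjectiveObjects :=
    Functor.preservesInjectiveObjects_of_adjunction_of_preservesMonomorphisms
      (TopCat.Sheaf.pullbackPushforwardAdjunction AddCommGrpCat.{u} t)
  have hac := DerPlus.exact_map_of_acyclic (CohTop.push t) (CochainComplex.mappingCone u) (-1)
    ((DerPlus.quasiIso_iff_acyclic_mappingCone u).1 hu) (fun n r hr => by
      obtain ⟨r, rfl⟩ : ∃ r', r = r' + 1 := ⟨r - 1, by omega⟩
      let F := (CohTop.push t).rightDerived (r + 1)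
      haveI : PreservesBinaryBiproducts F := preservesBinaryBiproducts_of_preservesBiproducts F
      refine IsZero.of_iso ?_ (F.mapIso (HomologicalComplex.homotopyCofiber.XIsoBiprod u n (n + 1) rfl) ≪≫
        F.mapBiprod _ _)
      exact (IsZero.iff_id_eq_zero _).2 (biprod.hom_ext _ _
        ((hC (n + 1) r).eq_of_tgt _ _) (((CohTop.push t).isZero_rightDerived_obj_injective_succ r (L.X n)).eq_of_tgt _ _)))
  let φ := ((CohTop.push t).mapHomologicalComplex (ComplexShape.up ℤ)).map u
  haveI : QuasiIso φ := (DerPlus.quasiIso_iff_acyclic_mappingCone φ).2 fun i =>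
    (hac i).of_iso (CochainComplex.mappingCone.mapHomologicalComplexIso u (CohTop.push t))
  haveI : ∀ n, Injective ((((CohTop.push t).mapHomologicalComplex (ComplexShape.up ℤ)).obj L).X n) := fun n =>
    inferInstanceAs (Injective ((CohTop.push t).obj (L.X n)))
  haveI : CochainComplex.IsStrictlyGE (((CohTop.push t).mapHomologicalComplex (ComplexShape.up ℤ)).obj L) 0 := inferInstance
  obtain ⟨a⟩ := nonempty_HH_injective (((CohTop.push t).mapHomologicalComplex (ComplexShape.up ℤ)).obj L) q
  obtain ⟨b⟩ := nonempty_HH_injective L q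
  exact ⟨(HH_quasiIso φ q).trans (a.trans
    (((HomologicalComplex.homologyFunctor _ _ q).mapIso (gamCPush t L)).addCommGroupIsoToAddEquiv.trans
      (b.symm.trans (HH_quasiIso u q).symm)))⟩

end Groth.Agent.DescAdams
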