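import Groth.Agent.DescAdams.Split
import Groth.Agent.GrothSS.PageOne
import Groth.Agent.TopPullModel.Descent
import Groth.Prelude.Def_SpSeq

/-!
The descent spectral sequence of a proper surjective map with separated fibres.
-/

set_option autoImplicit false
set_option linter.style.haveILetI false
set_option linter.unusedSectionVars false
set_option backward.isDefEq.respectTransparency false
set_option backward.isDefEq.respectTransparency.types false

universe u

open CategoryTheory Category Limits Opposite TopologicalSpace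
open Groth.Agent.TopPullModel Groth.Agent.TopCompact

namespace Groth.Agent.DescAdams

attribute [local instance] HasDerivedCategory.standard

variable {X S : TopCat.{u}} (f : X ⟶ S)

/-- The successor power is a base change. -/
theorem isPullback_succ (p : ℕ) :
    IsPullback (pr f (0 : Fin (p + 2))) (simp' f (Fin.succ : Fin (p + 1) → Fin (p + 2))) f (bs f p) := by
  have hw : pr f (0 : Fin (p + 2)) ≫ f = simp' f (Fin.succ : Fin (p + 1) → Fin (p + 2)) ≫ bs f p := by
    ext v
    exact (f_pr f 0 v).trans (bs_simp' f _ v).symm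
  let l : ∀ s : PullbackCone f (bs f p), s.pt ⟶ Pw f (p + 1) := fun s =>
    WidePullback.lift (s.snd ≫ bs f p) (Fin.cases s.fst fun i => s.snd ≫ pr f i) (by
      intro i
      refine Fin.cases ?_ (fun i => ?_) i
      · exact s.condition
      · simp [WidePullback.π_arrow])
  refine IsPullback.of_isLimit (PullbackCone.IsLimit.mk hw l (fun s => ?_) (fun s => ?_) fun s m h1 h2 => ?_)
  · simp [l]
  · refine TopCat.hom_ext (ContinuousMap.ext fun v => pw_ext f fun i => ?_)
    change pr f i (simp' f Fin.succ (l s v)) = pr f i (s.snd v)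
    rw [pr_simp']
    exact ConcreteCategory.congr_hom (show l s ≫ pr f i.succ = s.snd ≫ pr f i by simp [l]) v
  · refine TopCat.hom_ext (ContinuousMap.ext fun v => pw_ext f fun i => ?_)
    refine Fin.cases ?_ (fun i => ?_) i
    · exact (ConcreteCategory.congr_hom h1 v).trans
        (ConcreteCategory.congr_hom (show l s ≫ pr f 0 = s.fst by simp [l]) v).symm
    · refine Eq.trans ?_ (ConcreteCategory.congr_hom (show l s ≫ pr f i.succ = s.snd ≫ pr f i by simp [l]) v).symm
      refine Eq.trans ?_ (congrArg (pr f i) (ConcreteCategory.congr_hom h2 v))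
      exact (pr_simp' f Fin.succ i (m v)).symm

/-- The first power is the space. -/
theorem isPullback_zero : IsPullback (pr f (0 : Fin 1)) (bs f 0) f (𝟙 S) := by
  have hw : pr f (0 : Fin 1) ≫ f = bs f 0 ≫ 𝟙 S := by
    rw [comp_id]; exact WidePullback.π_arrow _ _
  let l : ∀ s : PullbackCone f (𝟙 S), s.pt ⟶ Pw f 0 := fun s =>
    WidePullback.lift s.snd (fun _ => s.fst) fun _ => by rw [s.condition, comp_id]
  refine IsPullback.of_isLimit (PullbackCone.IsLimit.mk hw l (fun s => ?_) (fun s => ?_) fun s m h1 h2 => ?_)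
  · simp [l]
  · simp [l]
  · refine TopCat.hom_ext (ContinuousMap.ext fun v => pw_ext f fun i => ?_)
    obtain rfl : i = 0 := Subsingleton.elim (α := Fin 1) _ _
    exact (ConcreteCategory.congr_hom h1 v).trans
      (ConcreteCategory.congr_hom (show l s ≫ pr f 0 = s.fst by simp [l]) v).symm

variable (hs : Function.Surjective f) (J₀ : GoodCx S)

/-- The groups of the first column. -/
noncomputable def ag (q : ℤ) (i : ℕ) : AddCommGrpCat.{u} := (gamC (stp f hs J₀ i).I.J).homology q

/-- The padding groups. -/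
noncomputable def zc (q : ℤ) : ℕ → ℕ → AddCommGrpCat.{u}
  | 0, _ => AddCommGrpCat.of PUnit.{u + 1}
  | 1, _ => AddCommGrpCat.of PUnit.{u + 1}
  | p + 2, i => AddCommGrpCat.of (ag f hs J₀ q (p + i) × zc q p i × zc q p (i + 1) × zc q (p + 1) (i + 1))

/-- Rearranging six factors. -/
def reorder (A B C A' B' C' : Type*) [Add A] [Add B] [Add C] [Add A'] [Add B'] [Add C'] :
    (A × B × C) × (A' × B' × C') ≃+ A' × C × (A × B × B' × C') where
  toFun x := (x.2.1, x.1.2.2, x.1.1, x.1.2.1, x.2.2.1, x.2.2.2)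
  invFun y := ((y.2.2.1, y.2.2.2.1, y.2.1), (y.1, y.2.2.2.2.1, y.2.2.2.2.2))
  left_inv _ := rfl
  right_inv _ := rfl
  map_add' _ _ := rfl

variable (hf : ProperSep f)

include hf in
theorem nonempty_HH_column (q : ℤ) : ∀ (p i : ℕ),
    Nonempty (HH ((cp (bs f p)).obj (tow f hs J₀ i).J) q ≃+
      ag f hs J₀ q (p + i) × zc f hs J₀ q p i × zc f hs J₀ q (p + 1) i) := by
  intro p
  induction p with
  | zero =>
    intro i
    obtain ⟨a⟩ := nonempty_HH_baseChange (isPullback_zero f) hf (bs f 0) (WidePullback.π_arrow _ _) _ (stp f hs J₀ i) q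
    haveI := (stp f hs J₀ i).I.ge
    haveI : CochainComplex.IsStrictlyGE ((cpush f).obj (stp f hs J₀ i).I.J) 0 := inferInstance
    haveI : ∀ n, Injective (((cpush f).obj (stp f hs J₀ i).I.J).X n) := fun n => by
      haveI := (stp f hs J₀ i).I.inj n
      exact inferInstanceAs (Injective ((CohTop.push f).obj ((stp f hs J₀ i).I.J.X n)))
    obtain ⟨b⟩ := nonempty_HH_injective ((cpush f).obj (stp f hs J₀ i).I.J) q
    let c : HH ((cp (bs f 0)).obj (tow f hs J₀ i).J) q ≃+ ag f hs J₀ q i :=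
      a.symm.trans ((HH_iso (cpIdIso _) q).trans (b.trans
        ((HomologicalComplex.homologyFunctor _ _ q).mapIso (gamCPush f (stp f hs J₀ i).I.J)).addCommGroupIsoToAddEquiv))
    have e : ag f hs J₀ q (0 + i) = ag f hs J₀ q i := by rw [Nat.zero_add]
    exact ⟨c.trans ((eqToIso e).symm.addCommGroupIsoToAddEquiv.trans
      { toFun := fun x => (x, PUnit.unit, PUnit.unit)
        invFun := fun y => y.1
        left_inv := fun _ => rfl
        right_inv := fun _ => rfl
        map_add' := fun _ _ => rfl })⟩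
  | succ p ih =>
    intro i
    obtain ⟨a⟩ := nonempty_HH_baseChange (isPullback_succ f p) hf (bs f (p + 1)) (WidePullback.π_arrow _ _) _
      (stp f hs J₀ i) q
    obtain ⟨b⟩ := nonempty_HH_step_split (g := bs f p) (pr f 0) (WidePullback.π_arrow _ _) _ (stp f hs J₀ i) q
    obtain ⟨c⟩ := ih i
    obtain ⟨d⟩ := ih (i + 1)
    have e : ag f hs J₀ q (p + (i + 1)) = ag f hs J₀ q (p + 1 + i) := by rw [Nat.add_right_comm, ← Nat.add_assoc]
    exact ⟨a.symm.trans (b.trans ((c.prodCongr d).trans ((reorder _ _ _ _ _ _).trans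
      ((eqToIso e).addCommGroupIsoToAddEquiv.prodCongr (AddEquiv.refl _)))))⟩

/-- A complex with zero differential in nonnegative degrees. -/
noncomputable def zcx (p : ℕ) : CochainComplex AddCommGrpCat.{u} ℤ where
  X n := if 0 ≤ n then zc f hs J₀ n p 0 else AddCommGrpCat.of PUnit.{u + 1}
  d _ _ := 0
  shape _ _ _ := rfl
  d_comp_d' _ _ _ _ _ := zero_comp

instance zcx_ge (p : ℕ) : (zcx f hs J₀ p).IsStrictlyGE 0 := by
  rw [CochainComplex.isStrictlyGE_iff]
  intro n hn
  change IsZero (if 0 ≤ n then _ else _)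
  rw [if_neg (by omega)]
  exact AddCommGrpCat.isZero_of_subsingleton _

theorem nonempty_homology_zcx (p q : ℕ) :
    Nonempty ((zcx f hs J₀ p).homology (q : ℤ) ≅ zc f hs J₀ (q : ℤ) p 0) :=
  ⟨(ShortComplex.LeftHomologyData.ofZeros ((zcx f hs J₀ p).sc (q : ℤ)) rfl rfl).homologyIso ≪≫
    eqToIso (show (if 0 ≤ (q : ℤ) then zc f hs J₀ (q : ℤ) p 0 else AddCommGrpCat.of PUnit.{u + 1}) = _ from
      if_pos (Int.natCast_nonneg q))⟩

/-- The global sections of the tower. -/
noncomputable abbrev gK (p : ℕ) : CochainComplex AddCommGrpCat.{u} ℤ := gamC (tow f hs J₀ p).J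

/-- The global sections of the direct images. -/
noncomputable abbrev gM (p : ℕ) : CochainComplex AddCommGrpCat.{u} ℤ :=
  gamC ((cpush f).obj (stp f hs J₀ p).I.J)

theorem gam_shortExact (p : ℕ) :
    (ShortComplex.mk (((gam S).mapHomologicalComplex (ComplexShape.up ℤ)).map (towι f hs J₀ p))
      (((gam S).mapHomologicalComplex (ComplexShape.up ℤ)).map (towπ f hs J₀ p))
      (by rw [← Functor.map_comp, towι_towπ, Functor.map_zero]) :
        ShortComplex (CochainComplex AddCommGrpCat.{u} ℤ)).ShortExact := by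
  refine HomologicalComplex.shortExact_of_degreewise_shortExact _ fun n => ?_
  have h := (tow_shortExact f hs J₀ p).map_of_exact (HomologicalComplex.eval _ (ComplexShape.up ℤ) n)
  haveI : Injective ((ShortComplex.mk (towι f hs J₀ p) (towπ f hs J₀ p) (towι_towπ f hs J₀ p)).map
      (HomologicalComplex.eval _ (ComplexShape.up ℤ) n)).X₁ := (tow f hs J₀ p).inj n
  exact ((h.splittingOfInjective).map (gam S)).shortExact

theorem biprod_map_comp_zero {A : Type*} [Category A] [Abelian A] {a b c a' b' c' : A} {f : a ⟶ b} {g : b ⟶ c}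
    {f' : a' ⟶ b'} {g' : b' ⟶ c'} (h : f ≫ g = 0) (h' : f' ≫ g' = 0) :
    biprod.map f f' ≫ biprod.map g g' = 0 := by
  ext <;> simp [h, h']

theorem shortExact_biprod {A : Type*} [Category A] [Abelian A] {S₁ S₂ : ShortComplex A}
    (h₁ : S₁.ShortExact) (h₂ : S₂.ShortExact) :
    (ShortComplex.mk (biprod.map S₁.f S₂.f) (biprod.map S₁.g S₂.g) (by
      ext <;> simp)).ShortExact := by
  haveI := h₁.mono_f
  haveI := h₂.mono_f
  haveI := h₁.epi_g
  haveI := h₂.epi_g
  refine @ShortComplex.ShortExact.mk _ _ _ _ ?_ ?_ ?_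
  · rw [ShortComplex.exact_iff_exact_up_to_refinements]
    intro W x hx
    change x ≫ biprod.map S₁.g S₂.g = 0 at hx
    have hx₁ : (x ≫ biprod.fst) ≫ S₁.g = 0 := by
      have := congrArg (· ≫ biprod.fst) hx
      simpa using this
    have hx₂ : (x ≫ biprod.snd) ≫ S₂.g = 0 := by
      have := congrArg (· ≫ biprod.snd) hx
      simpa using this
    refine ⟨W, 𝟙 W, inferInstance, biprod.lift (h₁.exact.lift _ hx₁) (h₂.exact.lift _ hx₂), ?_⟩
    change 𝟙 W ≫ x = biprod.lift _ _ ≫ biprod.map S₁.f S₂.f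
    rw [id_comp]
    ext <;> simp
  · change Mono (biprod.map S₁.f S₂.f)
    infer_instance
  · change Epi (biprod.map S₁.g S₂.g)
    infer_instance

theorem isStrictlyGE_biprod (K L : CochainComplex AddCommGrpCat.{u} ℤ) [K.IsStrictlyGE 0] [L.IsStrictlyGE 0] :
    (K ⊞ L).IsStrictlyGE 0 := by
  rw [CochainComplex.isStrictlyGE_iff]
  intro n hn
  let F := HomologicalComplex.eval AddCommGrpCat.{u} (ComplexShape.up ℤ) n
  haveI : PreservesBinaryBiproducts F := preservesBinaryBiproducts_of_preservesBiproducts F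
  refine IsZero.of_iso ?_ (F.mapBiprod K L)
  exact (IsZero.iff_id_eq_zero _).2 (biprod.hom_ext _ _ ((K.isZero_of_isStrictlyGE 0 n hn).eq_of_tgt _ _)
    ((L.isZero_of_isStrictlyGE 0 n hn).eq_of_tgt _ _))

theorem nonempty_HH_pull_resolution {Y : TopCat.{u}} (g : Y ⟶ S) {F : CohTop.Ab S} (R : InjectiveResolution F) (q : ℕ) :
    Nonempty (HH ((cp g).obj R.cochainComplex) q ≃+ CohTop.H ((CohTop.pull g).obj F) q) := by
  obtain ⟨a⟩ := nonempty_HH_single ((CohTop.pull g).obj F) q
  haveI : QuasiIso ((cp g).map R.ι') := inferInstance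
  exact ⟨(HH_quasiIso ((cp g).map R.ι') _).symm.trans
    ((HH_iso ((HomologicalComplex.singleMapHomologicalComplex (CohTop.pull g) (ComplexShape.up ℤ) 0).app F) _).trans a)⟩

set_option maxHeartbeats 2000000 in
omit J₀ in
include hs hf in
/-- The descent spectral sequence. -/
theorem descent_ss_of_properSep (F : CohTop.Ab S) :
    ∃ (E : CohomologicalSpectralSequence AddCommGrpCat.{u} 1) (a : SpSeq.Abutment E (fun n : ℤ => if 0 ≤ n then AddCommGrpCat.of (CohTop.H F n.toNat) else AddCommGrpCat.of PUnit.{u + 1})), (∀ n, a.IsFinite n) ∧ SpSeq.IsBounded E ∧ ∀ p q : ℤ, Nonempty ((E.page 1 le_rfl).X (p, q) ≅ (if 0 ≤ p ∧ 0 ≤ q then AddCommGrpCat.of (CohTop.H ((CohTop.pull (WidePullback.base (fun _ : Fin (p.toNat + 1) => f) : widePullback S (fun _ : Fin (p.toNat + 1) => X) (fun _ => f) ⟶ S)).obj F) q.toNat) else AddCommGrpCat.of PUnit.{u + 1})) := by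
  let R := injectiveResolution F
  let J₀ : GoodCx S := ⟨R.cochainComplex, fun n => inferInstance, inferInstance⟩
  let Γ : CochainComplex (CohTop.Ab S) ℤ ⥤ CochainComplex AddCommGrpCat.{u} ℤ :=
    (gam S).mapHomologicalComplex (ComplexShape.up ℤ)
  let Z := zcx f hs J₀
  let K : ℕ → CochainComplex AddCommGrpCat.{u} ℤ := fun p => gK f hs J₀ p ⊞ Z p
  let M : ℕ → CochainComplex AddCommGrpCat.{u} ℤ := fun p => gM f hs J₀ p ⊞ (Z p ⊞ Z (p + 1))
  let ι : ∀ p, K p ⟶ M p := fun p => biprod.map (Γ.map (towι f hs J₀ p)) biprod.inl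
  let π : ∀ p, M p ⟶ K (p + 1) := fun p => biprod.map (Γ.map (towπ f hs J₀ p)) biprod.snd
  have hS2 : ∀ p, (ShortComplex.mk (biprod.inl : Z p ⟶ Z p ⊞ Z (p + 1)) biprod.snd (by simp)).ShortExact :=
    fun p => (ShortComplex.Splitting.ofHasBinaryBiproduct (Z p) (Z (p + 1))).shortExact
  have w : ∀ p, ι p ≫ π p = 0 := fun p =>
    biprod_map_comp_zero (by rw [← Functor.map_comp, towι_towπ, Functor.map_zero]) biprod.inl_snd
  have hS : ∀ p, (ShortComplex.mk (ι p) (π p) (w p)).ShortExact := fun p =>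
    shortExact_biprod (gam_shortExact f hs J₀ p) (hS2 p)
  haveI hgK : ∀ p, (gK f hs J₀ p).IsStrictlyGE 0 := fun p => by
    haveI := (tow f hs J₀ p).ge
    infer_instance
  haveI hgM : ∀ p, (gM f hs J₀ p).IsStrictlyGE 0 := fun p => by
    haveI := (stp f hs J₀ p).I.ge
    haveI : CochainComplex.IsStrictlyGE ((cpush f).obj (stp f hs J₀ p).I.J) 0 := inferInstance
    infer_instance
  haveI : ∀ p, (K p).IsStrictlyGE 0 := fun p => isStrictlyGE_biprod _ _
  haveI : ∀ p, (Z p ⊞ Z (p + 1)).IsStrictlyGE 0 := fun p => isStrictlyGE_biprod _ _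
  haveI : ∀ p, (M p).IsStrictlyGE 0 := fun p => isStrictlyGE_biprod _ _
  let Hq := fun q : ℤ => HomologicalComplex.homologyFunctor AddCommGrpCat.{u} (ComplexShape.up ℤ) q
  haveI : ∀ q, PreservesBinaryBiproducts (Hq q) := fun q => preservesBinaryBiproducts_of_preservesBiproducts _
  refine GrothSS.exists_pageOne K M ι π w hS _ (fun n => ?_)
    (fun p q => if 0 ≤ p ∧ 0 ≤ q then AddCommGrpCat.of (CohTop.H ((CohTop.pull (bs f p.toNat)).obj F) q.toNat)
      else AddCommGrpCat.of PUnit.{u + 1}) (fun p q => ?_)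
    (fun p q h => by rw [if_neg (by omega)]; exact AddCommGrpCat.isZero_of_subsingleton _)
  · rcases lt_or_ge n 0 with hn | hn
    · refine ⟨(CochainComplex.exactAt_of_isGE (K 0) 0 n hn).isZero_homology.iso ?_⟩
      rw [if_neg (by omega)]
      exact AddCommGrpCat.isZero_of_subsingleton _
    · obtain ⟨n, rfl⟩ := Int.eq_ofNat_of_zero_le hn
      obtain ⟨z⟩ := nonempty_homology_zcx f hs J₀ 0 n
      have hz : IsZero ((Hq n).obj (Z 0)) := (AddCommGrpCat.isZero_of_subsingleton (AddCommGrpCat.of PUnit.{u + 1})).of_iso z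
      obtain ⟨b⟩ := GrothSS.nonempty_homology_map_resolution (gam S) R n
      refine ⟨(Hq n).mapBiprod _ _ ≪≫ ?_ ≪≫ (b ≪≫ gamDerived n F) ≪≫ eqToIso (if_pos (Int.natCast_nonneg n)).symm⟩
      exact (isoBiprodZero hz).symm
  · obtain ⟨a⟩ := nonempty_HH_column f hs J₀ hf (q : ℤ) p 0
    obtain ⟨c⟩ := nonempty_HH_pull_resolution (bs f p) R q
    obtain ⟨z⟩ := nonempty_homology_zcx f hs J₀ p q
    obtain ⟨z'⟩ := nonempty_homology_zcx f hs J₀ (p + 1) q
    let m : (Hq q).obj (gM f hs J₀ p) ≅ ag f hs J₀ q p := (Hq q).mapIso (gamCPush f (stp f hs J₀ p).I.J)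
    let e : (Hq q).obj (M p) ≅ AddCommGrpCat.of (ag f hs J₀ q p × zc f hs J₀ q p 0 × zc f hs J₀ q (p + 1) 0) :=
      (Hq q).mapBiprod _ _ ≪≫ biprod.mapIso m ((Hq q).mapBiprod _ _ ≪≫ biprod.mapIso z z' ≪≫
        AddCommGrpCat.biprodIsoProd _ _) ≪≫ AddCommGrpCat.biprodIsoProd _ _
    exact ⟨e ≪≫ (a.symm.trans c).toAddCommGrpIso ≪≫
      eqToIso (if_pos ⟨Int.natCast_nonneg p, Int.natCast_nonneg q⟩).symm⟩

end Groth.Agent.DescAdams
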