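import Mathlib.Algebra.Homology.ModelCategory.Injective
import Mathlib.Algebra.Homology.DerivedCategory.TStructure
import Mathlib.Algebra.Homology.Factorizations.CM5a
import Mathlib.Algebra.Homology.DerivedCategory.DerivabilityStructureInjectives

/-!
Degreewise monomorphic injective resolutions of complexes in nonnegative degrees.
-/

set_option autoImplicit false
set_option linter.style.haveILetI false
set_option linter.unusedSectionVars false
set_option backward.isDefEq.respectTransparency false
set_option backward.isDefEq.respectTransparency.types false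

universe v u

open CategoryTheory Category Limits

namespace Groth.Agent.DescAdams

variable {A : Type u} [Category.{v} A] [Abelian A] [EnoughInjectives A]

theorem mono_f_πTruncGE (L : CochainComplex A ℤ) (m i : ℤ) (h : m < i) : IsIso ((L.πTruncGE m).f i) := by
  obtain ⟨k, rfl⟩ : ∃ k : ℕ, i = m + k := ⟨(i - m).toNat, by omega⟩
  dsimp only [CochainComplex.πTruncGE, HomologicalComplex.πTruncGE]
  rw [(ComplexShape.embeddingUpIntGE m).isIso_liftExtend_f_iff _ _ (i := k) (by simp)]
  refine L.isIso_restrictionToTruncGE' (ComplexShape.embeddingUpIntGE m) k ?_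
  rw [ComplexShape.boundaryGE_embeddingUpIntGE_iff]
  omega

/-- An injective resolution which is a monomorphism in each degree. -/
theorem exists_mono_resolution (C : CochainComplex A ℤ) [C.IsStrictlyGE 0] :
    ∃ (I : CochainComplex A ℤ) (u : C ⟶ I),
      QuasiIso u ∧ (∀ n, Injective (I.X n)) ∧ I.IsStrictlyGE 0 ∧ ∀ n, Mono (u.f n) := by
  letI : HasDerivedCategory A := MorphismProperty.HasLocalization.standard _
  obtain ⟨L, i, hi, hiq, hL, hLge⟩ := CochainComplex.Plus.modelCategoryQuillen.exists_mono_quasiIso_injective C (-1) 0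
  haveI : L.IsGE 0 := by
    have hK : C.IsGE 0 := inferInstance
    rw [← DerivedCategory.isGE_Q_obj_iff] at hK ⊢
    exact DerivedCategory.TStructure.t.isGE_of_iso (asIso (DerivedCategory.Q.map i)) 0
  haveI : QuasiIso (L.πTruncGE 0) := (L.quasiIso_πTruncGE_iff 0).mpr inferInstance
  haveI : Injective (L.opcycles 0) := L.injective_opcycles (-1) 0 (L.exactAt_of_isGE 0 (-1))
  have hI : ∀ q, Injective ((L.truncGE 0).X q) := fun q => by
    obtain h | rfl | h := lt_trichotomy q 0
    · exact (CochainComplex.isZero_of_isStrictlyGE _ 0 _ h).injective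
    · exact Injective.of_iso (L.truncGEXIsoOpcycles 0).symm inferInstance
    · exact Injective.of_iso (L.truncGEXIso 0 q h).symm (hL q)
  refine ⟨L.truncGE 0, i ≫ L.πTruncGE 0, inferInstance, hI, inferInstance, fun n => ?_⟩
  obtain h | rfl | h := lt_trichotomy n 0
  · exact ⟨fun _ _ _ => (C.isZero_of_isStrictlyGE 0 n h).eq_of_tgt _ _⟩
  · let u := i ≫ L.πTruncGE 0
    haveI : QuasiIso u := inferInstance
    haveI : Mono (u.f 1) := by
      haveI := mono_f_πTruncGE L 0 1 one_pos
      exact inferInstanceAs (Mono (i.f 1 ≫ (L.πTruncGE 0).f 1))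
    haveI hc : Mono (HomologicalComplex.cyclesMap u 0) := by
      have e := HomologicalComplex.homologyπ_naturality u (0 : ℤ)
      haveI : Mono (C.homologyπ 0) :=
        (C.isIso_homologyπ (-1) 0 (by simp) ((C.isZero_of_isStrictlyGE 0 (-1) (by omega)).eq_of_src _ _)).mono_of_iso
      haveI : Mono (C.homologyπ 0 ≫ HomologicalComplex.homologyMap u 0) := inferInstance
      rw [e] at this
      exact mono_of_mono _ ((L.truncGE 0).homologyπ 0)
    refine Preadditive.mono_of_cancel_zero _ fun {T} a ha => ?_
    change a ≫ u.f 0 = 0 at ha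
    have hd : a ≫ C.d 0 1 = 0 := by
      rw [← cancel_mono (u.f 1), assoc, ← u.comm 0 1, reassoc_of% ha, zero_comp, zero_comp]
    have hz : C.liftCycles a 1 (by simp) hd = 0 := by
      rw [← cancel_mono (HomologicalComplex.cyclesMap u 0), zero_comp, ← cancel_mono ((L.truncGE 0).iCycles 0),
        assoc, HomologicalComplex.cyclesMap_i, HomologicalComplex.liftCycles_i_assoc, zero_comp]
      exact ha
    rw [← C.liftCycles_i a 1 (by simp) hd, hz, zero_comp]
  · haveI := mono_f_πTruncGE L 0 n h
    exact inferInstanceAs (Mono (i.f n ≫ (L.πTruncGE 0).f n))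

end Groth.Agent.DescAdams
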