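import Groth.Agent.DescAdams.Tower
import Groth.Agent.TopCompact.BaseChange

/-!
Hypercohomology of the inverse images of the tower: base change and splitting.
-/

set_option autoImplicit false
set_option linter.style.haveILetI false
set_option linter.unusedSectionVars false
set_option backward.isDefEq.respectTransparency false
set_option backward.isDefEq.respectTransparency.types false

universe u

open CategoryTheory Category Limits Opposite TopologicalSpace
open Groth.Agent.TopPullModel Groth.Agent.TopCompact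

namespace Groth.Agent.DescAdams

attribute [local instance] HasDerivedCategory.standard

variable {X S P P' : TopCat.{u}}

/-- Inverse images of complexes along composites. -/
noncomputable def cpCompIso {A B C : TopCat.{u}} (a : A ⟶ B) (b : B ⟶ C) (k : A ⟶ C) (e : a ≫ b = k)
    (K : CochainComplex (CohTop.Ab C) ℤ) : (cp a).obj ((cp b).obj K) ≅ (cp k).obj K :=
  HomologicalComplex.Hom.isoOfComponents (fun n => (CohTopDesc.pullCompIso a b k e).app (K.X n))
    fun i j _ => ((CohTopDesc.pullCompIso a b k e).hom.naturality (K.d i j)).symm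

theorem cpCompIso_naturality {A B C : TopCat.{u}} (a : A ⟶ B) (b : B ⟶ C) (k : A ⟶ C) (e : a ≫ b = k)
    {K L : CochainComplex (CohTop.Ab C) ℤ} (φ : K ⟶ L) :
    (cp k).map φ ≫ (cpCompIso a b k e L).inv = (cpCompIso a b k e K).inv ≫ (cp a).map ((cp b).map φ) := by
  ext1 n
  exact (CohTopDesc.pullCompIso a b k e).inv.naturality (φ.f n)

/-- Inverse image along the identity. -/
noncomputable def cpIdIso (K : CochainComplex (CohTop.Ab S) ℤ) : (cp (𝟙 S)).obj K ≅ K :=
  HomologicalComplex.Hom.isoOfComponents (fun n => (CohTopDesc.pullIdIso (X := S)).app (K.X n))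
    fun i j _ => ((CohTopDesc.pullIdIso (X := S)).hom.naturality (K.d i j)).symm

variable {f : X ⟶ S} {g : P ⟶ S} {q' : P' ⟶ X} {t : P' ⟶ P}

theorem nonempty_HH_baseChange (sq : IsPullback q' t f g) (hf : ProperSep f) (k : P' ⟶ S) (hk : q' ≫ f = k)
    (J : GoodCx S) (T : AStep f J) (q : ℤ) :
    Nonempty (HH ((cp g).obj ((cpush f).obj T.I.J)) q ≃+ HH ((cp k).obj J.J) q) := by
  let bc : CohTop.push f ⋙ CohTop.pull g ≅ CohTop.pull q' ⋙ CohTop.push t :=
    Functor.isoWhiskerLeft (CohTop.push f) (mfunIso g).symm ≪≫ bcIso sq hf ≪≫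
      Functor.isoWhiskerRight (mfunIso q') (CohTop.push t)
  let e₁ : (cp g).obj ((cpush f).obj T.I.J) ≅ (cpush t).obj ((cp q').obj T.I.J) :=
    HomologicalComplex.Hom.isoOfComponents (fun n => bc.app (T.I.J.X n))
      fun i j _ => (bc.hom.naturality (T.I.J.d i j)).symm
  haveI := T.I.ge
  haveI : CochainComplex.IsStrictlyGE ((cp q').obj T.I.J) 0 := inferInstance
  obtain ⟨a⟩ := nonempty_HH_push t ((cp q').obj T.I.J) (fun n r => by
    haveI := T.I.inj n
    haveI : TopCat.Sheaf.IsFlasque (T.I.J.X n) := S0454.result _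
    exact (isZero_Rpush_mfun sq hf (T.I.J.X n) r).of_iso
      ((CohTop.Rpush t (r + 1)).mapIso ((mfunIso q').app (T.I.J.X n)).symm)) q
  haveI := T.quasi
  haveI : QuasiIso ((cp q').map T.u) := inferInstance
  exact ⟨(HH_iso e₁ q).trans (a.trans ((HH_quasiIso ((cp q').map T.u) q).symm.trans
    (HH_iso (cpCompIso q' f k hk J.J) q)))⟩

theorem nonempty_HH_step_split (t₀ : P ⟶ X) (e : t₀ ≫ f = g) (J : GoodCx S) (T : AStep f J) (q : ℤ) :
    Nonempty (HH ((cp g).obj ((cpush f).obj T.I.J)) q ≃+ HH ((cp g).obj J.J) q × HH ((cp g).obj T.next.J) q) := by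
  let Sg : ShortComplex (CochainComplex (CohTop.Ab P) ℤ) :=
    ShortComplex.mk ((cp g).map (adjMap f T.u)) ((cp g).map T.π) (by rw [← Functor.map_comp, T.w, Functor.map_zero])
  have hS : Sg.ShortExact := HomologicalComplex.shortExact_of_degreewise_shortExact _ fun n =>
    ((T.exact.map_of_exact (HomologicalComplex.eval _ (ComplexShape.up ℤ) n)).map_of_exact (CohTop.pull g) :)
  haveI := T.quasi
  haveI : QuasiIso ((cp t₀).map T.u) := inferInstance
  let r : (DerivedCategory.Q : _ ⥤ DerivedCategory (CohTop.Ab P)).obj Sg.X₂ ⟶ DerivedCategory.Q.obj Sg.X₁ :=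
    DerivedCategory.Q.map ((cpCompIso t₀ f g e _).inv ≫ (cp t₀).map (counitC f T.I.J)) ≫
      inv (DerivedCategory.Q.map ((cp t₀).map T.u)) ≫ DerivedCategory.Q.map (cpCompIso t₀ f g e J.J).hom
  refine nonempty_HHof_split _ hS r ?_ q
  have h1 : Sg.f ≫ (cpCompIso t₀ f g e _).inv ≫ (cp t₀).map (counitC f T.I.J) =
      (cpCompIso t₀ f g e J.J).inv ≫ (cp t₀).map T.u := by
    rw [← assoc, cpCompIso_naturality, assoc, ← Functor.map_comp, cp_adjMap_counitC]
  change DerivedCategory.Q.map Sg.f ≫ DerivedCategory.Q.map _ ≫ _ ≫ _ = _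
  rw [← Functor.map_comp_assoc, h1, Functor.map_comp, assoc, IsIso.hom_inv_id_assoc, ← Functor.map_comp,
    Iso.inv_hom_id, CategoryTheory.Functor.map_id]

end Groth.Agent.DescAdams
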