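import Groth.Agent.DescAdams.Hyper
import Groth.Agent.DescAdams.Resolve

/-!
The tower of a surjective map: complexes of injectives embedded in direct images of injective resolutions of
their inverse images.
-/

set_option autoImplicit false
set_option linter.style.haveILetI false
set_option linter.unusedSectionVars false
set_option backward.isDefEq.respectTransparency false
set_option backward.isDefEq.respectTransparency.types false

universe u

open CategoryTheory Category Limits Opposite TopologicalSpace
open Groth.Agent.TopPullModel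

namespace Groth.Agent.DescAdams

variable {X S : TopCat.{u}}

instance pull_additive (g : X ⟶ S) : (CohTop.pull g).Additive :=
  haveI : (TopCat.Sheaf.pushforward AddCommGrpCat.{u} g).Additive := inferInstanceAs (CohTop.push g).Additive
  (TopCat.Sheaf.pullbackPushforwardAdjunction AddCommGrpCat.{u} g).left_adjoint_additive

instance pull_preservesFiniteColimits (g : X ⟶ S) : PreservesFiniteColimits (CohTop.pull g) := by
  haveI := (TopCat.Sheaf.pullbackPushforwardAdjunction AddCommGrpCat.{u} g).leftAdjoint_preservesColimits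
  infer_instance

instance push_preservesFiniteLimits (g : X ⟶ S) : PreservesFiniteLimits (CohTop.push g) := by
  haveI := (TopCat.Sheaf.pullbackPushforwardAdjunction AddCommGrpCat.{u} g).rightAdjoint_preservesLimits
  infer_instance

instance push_preservesInjectiveObjects (g : X ⟶ S) : (CohTop.push g).PreservesInjectiveObjects :=
  Functor.preservesInjectiveObjects_of_adjunction_of_preservesMonomorphisms
    (TopCat.Sheaf.pullbackPushforwardAdjunction AddCommGrpCat.{u} g)

/-- Inverse image of complexes. -/
noncomputable abbrev cp (g : X ⟶ S) : CochainComplex (CohTop.Ab S) ℤ ⥤ CochainComplex (CohTop.Ab X) ℤ :=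
  (CohTop.pull g).mapHomologicalComplex (ComplexShape.up ℤ)

/-- Direct image of complexes. -/
noncomputable abbrev cpush (g : X ⟶ S) : CochainComplex (CohTop.Ab X) ℤ ⥤ CochainComplex (CohTop.Ab S) ℤ :=
  (CohTop.push g).mapHomologicalComplex (ComplexShape.up ℤ)

variable (f : X ⟶ S)

/-- The adjoint map. -/
noncomputable def adjMap {J : CochainComplex (CohTop.Ab S) ℤ} {I : CochainComplex (CohTop.Ab X) ℤ}
    (u : (cp f).obj J ⟶ I) : J ⟶ (cpush f).obj I where
  f n := (CohTopDesc.adj f).homEquiv _ _ (u.f n)
  comm' i j _ := by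
    change (CohTopDesc.adj f).homEquiv _ _ (u.f i) ≫ (CohTop.push f).map (I.d i j) =
      J.d i j ≫ (CohTopDesc.adj f).homEquiv _ _ (u.f j)
    rw [← Adjunction.homEquiv_naturality_right, ← Adjunction.homEquiv_naturality_left, u.comm i j]
    rfl

/-- The counit on complexes. -/
noncomputable def counitC (I : CochainComplex (CohTop.Ab X) ℤ) : (cp f).obj ((cpush f).obj I) ⟶ I where
  f n := (CohTopDesc.adj f).counit.app (I.X n)
  comm' i j _ := ((CohTopDesc.adj f).counit.naturality (I.d i j)).symm

theorem cp_adjMap_counitC {J : CochainComplex (CohTop.Ab S) ℤ} {I : CochainComplex (CohTop.Ab X) ℤ}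
    (u : (cp f).obj J ⟶ I) : (cp f).map (adjMap f u) ≫ counitC f I = u := by
  ext1 n
  change (CohTop.pull f).map ((CohTopDesc.adj f).homEquiv _ _ (u.f n)) ≫
    (CohTopDesc.adj f).counit.app (I.X n) = u.f n
  exact (Adjunction.homEquiv_counit (CohTopDesc.adj f) _ _ _).symm.trans (Equiv.symm_apply_apply _ _)

theorem mono_unit (hs : Function.Surjective f) (F : CohTop.Ab S) : Mono ((CohTopDesc.adj f).unit.app F) := by
  haveI : Mono (unit f F) := by
    refine (sheafToPresheaf _ _).mono_of_mono_map ?_
    refine @NatTrans.mono_of_mono_app _ _ _ _ _ _ _ fun V => (AddCommGrpCat.mono_iff_injective _).2 fun a b e => ?_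
    refine gm_ext F V.unop a b fun x hx => ?_
    obtain ⟨v, rfl⟩ := hs x
    exact congrArg (fun t : secs f F ((Opens.map f).obj V.unop) => t.1 ⟨v, hx⟩ ⟨f v, rfl⟩) e
  have e := Adjunction.unit_leftAdjointUniq_hom_app (madj f) (CohTopDesc.adj f) F
  have hu : (madj f).unit.app F = unit f F := by
    change unit f F ≫ (CohTop.push f).map (𝟙 _) = _
    rw [CategoryTheory.Functor.map_id, comp_id]
  rw [← e, hu]
  infer_instance

theorem mono_homEquiv (hs : Function.Surjective f) {F : CohTop.Ab S} {G : CohTop.Ab X}
    (u : (CohTop.pull f).obj F ⟶ G) [Mono u] : Mono ((CohTopDesc.adj f).homEquiv _ _ u) := by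
  rw [Adjunction.homEquiv_unit]
  haveI := mono_unit f hs F
  exact mono_comp _ _

/-- Complexes of injectives in nonnegative degrees. -/
structure GoodCx (Y : TopCat.{u}) where
  /-- the complex -/
  J : CochainComplex (CohTop.Ab Y) ℤ
  inj : ∀ n, Injective (J.X n)
  ge : J.IsStrictlyGE 0

/-- One step of the tower. -/
structure AStep (J : GoodCx S) where
  /-- the resolution of the inverse image -/
  I : GoodCx X
  /-- the resolution map -/
  u : (cp f).obj J.J ⟶ I.J
  quasi : QuasiIso u
  /-- the next complex -/
  next : GoodCx S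
  /-- the projection -/
  π : (cpush f).obj I.J ⟶ next.J
  w : adjMap f u ≫ π = 0
  exact : (ShortComplex.mk (adjMap f u) π w).ShortExact

theorem nonempty_astep (hs : Function.Surjective f) (J : GoodCx S) : Nonempty (AStep f J) := by
  haveI := J.ge
  haveI : CochainComplex.IsStrictlyGE ((cp f).obj J.J) 0 := inferInstance
  obtain ⟨I, u, hu, hI, hIge, hmono⟩ := exists_mono_resolution ((cp f).obj J.J)
  let ι := adjMap f u
  haveI : ∀ n, Mono (ι.f n) := fun n => by
    haveI := hmono n
    exact mono_homEquiv f hs (u.f n)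
  haveI : Mono ι := HomologicalComplex.mono_of_mono_f ι inferInstance
  let T := ShortComplex.mk ι (cokernel.π ι) (cokernel.condition ι)
  have hT : T.ShortExact := { exact := ShortComplex.exact_cokernel ι }
  have hTn : ∀ n, (T.map (HomologicalComplex.eval (CohTop.Ab S) (ComplexShape.up ℤ) n)).ShortExact := fun n =>
    hT.map_of_exact _
  have hinj : ∀ n, Injective ((cokernel ι).X n) := fun n => by
    haveI : Injective (T.map (HomologicalComplex.eval (CohTop.Ab S) (ComplexShape.up ℤ) n)).X₁ := J.inj n
    haveI : Injective ((CohTop.push f).obj (I.X n)) := by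
      haveI := hI n
      infer_instance
    let sp := (hTn n).splittingOfInjective
    exact (⟨sp.s, _, sp.s_g⟩ : Retract _ ((CohTop.push f).obj (I.X n))).injective
  have hge : (cokernel ι).IsStrictlyGE 0 := by
    rw [CochainComplex.isStrictlyGE_iff]
    intro n hn
    haveI := (hTn n).epi_g
    exact IsZero.of_epi (T.map (HomologicalComplex.eval (CohTop.Ab S) (ComplexShape.up ℤ) n)).g
      ((CohTop.push f).map_isZero (I.isZero_of_isStrictlyGE 0 n hn))
  exact ⟨⟨⟨I, hI, hIge⟩, u, hu, ⟨cokernel ι, hinj, hge⟩, cokernel.π ι, cokernel.condition ι, hT⟩⟩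

variable (hs : Function.Surjective f) (J₀ : GoodCx S)

/-- The complexes of the tower. -/
noncomputable def tow : ℕ → GoodCx S
  | 0 => J₀
  | i + 1 => (nonempty_astep f hs (tow i)).some.next

/-- The steps of the tower. -/
noncomputable def stp (i : ℕ) : AStep f (tow f hs J₀ i) := (nonempty_astep f hs (tow f hs J₀ i)).some

/-- The inclusion in the next direct image. -/
noncomputable def towι (i : ℕ) : (tow f hs J₀ i).J ⟶ (cpush f).obj (stp f hs J₀ i).I.J :=
  adjMap f (stp f hs J₀ i).u

/-- The projection to the next complex. -/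
noncomputable def towπ (i : ℕ) : (cpush f).obj (stp f hs J₀ i).I.J ⟶ (tow f hs J₀ (i + 1)).J :=
  (stp f hs J₀ i).π

theorem towι_towπ (i : ℕ) : towι f hs J₀ i ≫ towπ f hs J₀ i = 0 := (stp f hs J₀ i).w

theorem tow_shortExact (i : ℕ) :
    (ShortComplex.mk (towι f hs J₀ i) (towπ f hs J₀ i) (towι_towπ f hs J₀ i)).ShortExact :=
  (stp f hs J₀ i).exact

end Groth.Agent.DescAdams
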